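import Mathlib

/-!
# Binary spaces from their lines

A binary operation `f` sending two distinct points to the third point of their line, in which
non-collinear triples associate, is the nonzero part of a vector space over `ZMod 2`; so a group
acting compatibly maps to a general linear group over `ZMod 2` with kernel the pointwise
stabiliser.
-/

set_option autoImplicit false

namespace CfsgLib.TwoSpace

open Matrix

universe u v

variable {X : Type u}

/-- `f x y` is the third point of the line through the distinct points `x`, `y`. -/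
structure Lines (f : X → X → X) : Prop where
  comm : ∀ x y, x ≠ y → f x y = f y x
  ne : ∀ x y, x ≠ y → f x y ≠ x
  inv : ∀ x y, x ≠ y → f x (f x y) = y
  assoc : ∀ x y z, x ≠ y → y ≠ z → x ≠ z → z ≠ f x y → f (f x y) z = f x (f y z)

/-- Seven-point closed sets through every triangle give associativity. -/
theorem lines_of_planes (f : X → X → X) (hcomm : ∀ x y, x ≠ y → f x y = f y x)
    (hne : ∀ x y, x ≠ y → f x y ≠ x) (hinv : ∀ x y, x ≠ y → f x (f x y) = y)
    (hplane : ∀ x y z, x ≠ y → y ≠ z → x ≠ z → z ≠ f x y →
      ∃ S : Set X, Nat.card S = 7 ∧ x ∈ S ∧ y ∈ S ∧ z ∈ S ∧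
        ∀ a ∈ S, ∀ b ∈ S, a ≠ b → f a b ∈ S) :
    Lines f := by
  classical
  refine ⟨hcomm, hne, hinv, fun x y z hxy hyz hxz hz => ?_⟩
  have hne' : ∀ a b, a ≠ b → f a b ≠ b := fun a b h => by
    rw [hcomm a b h]; exact hne b a (Ne.symm h)
  have hinv' : ∀ a b, a ≠ b → f (f a b) b = a := fun a b h => by
    rw [hcomm _ _ (hne' a b h), hcomm a b h]; exact hinv b a (Ne.symm h)
  have hcancel : ∀ a b c, a ≠ b → a ≠ c → f a b = f a c → b = c := fun a b c hb hc h => by
    rw [← hinv a b hb, ← hinv a c hc, h]
  obtain ⟨S, hS, hx, hy, hzS, hcl⟩ := hplane x y z hxy hyz hxz hz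
  set p := f x y with hp
  set q := f y z with hq
  set r := f x z with hr
  have hxq : x ≠ q := fun e => hz <| by
    rw [hp, hcomm x y hxy, e, hq, hinv y z hyz]
  have hpz : p ≠ z := Ne.symm hz
  have hyr : y ≠ r := fun e => hz <| by rw [hp, e, hr, hinv x z hxz]
  have hpy : p ≠ y := hne' x y hxy
  have hpx : p ≠ x := hne x y hxy
  have hqy : q ≠ y := hne y z hyz
  have hqz : q ≠ z := hne' y z hyz
  have hrx : r ≠ x := hne x z hxz
  have hrz : r ≠ z := hne' x z hxz
  have hpq : p ≠ q := fun e => by
    rw [hp, hcomm x y hxy] at e
    exact hxz (hcancel y x z (Ne.symm hxy) hyz e)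
  have hpr : p ≠ r := fun e => hyz (hcancel x y z hxy hxz e)
  have hqr : q ≠ r := fun e => by
    rw [hq, hr, hcomm y z hyz, hcomm x z hxz] at e
    exact hxy (hcancel z y x (Ne.symm hyz) (Ne.symm hxz) e).symm
  have hpS : p ∈ S := hcl x hx y hy hxy
  have hqS : q ∈ S := hcl y hy z hzS hyz
  have hrS : r ∈ S := hcl x hx z hzS hxz
  have huS : f p z ∈ S := hcl p hpS z hzS hpz
  have hvS : f x q ∈ S := hcl x hx q hqS hxq
  let six : Finset X := {x, y, z, p, q, r}
  have h6 : six.card = 6 := by
    simp [six, hxy, hxz, hyz, hxq, Ne.symm hpx, Ne.symm hrx, Ne.symm hpy, Ne.symm hqy, hyr,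
      Ne.symm hpz, Ne.symm hqz, Ne.symm hrz, hpq, hpr, hqr]
  have hu : f p z ∉ six := by
    simp only [six, Finset.mem_insert, Finset.mem_singleton, not_or]
    refine ⟨fun e => ?_, fun e => ?_, hne' p z hpz, hne p z hpz, fun e => ?_, fun e => ?_⟩
    · have h1 : f p x = f p (f p z) := by rw [e]
      rw [hinv p z hpz, hp, hcomm _ x hpx, hinv x y hxy] at h1
      exact hyz h1
    · have h1 : f p y = f p (f p z) := by rw [e]
      rw [hinv p z hpz, hp, hinv' x y hxy] at h1
      exact hxz h1
    · rw [hq, hcomm p z hpz, hcomm y z hyz] at e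
      exact hpy (hcancel z p y hz (Ne.symm hyz) e)
    · rw [hr, hcomm p z hpz, hcomm x z hxz] at e
      exact hpx (hcancel z p x hz (Ne.symm hxz) e)
  have hv : f x q ∉ six := by
    simp only [six, Finset.mem_insert, Finset.mem_singleton, not_or]
    refine ⟨hne x q hxq, fun e => ?_, fun e => ?_, fun e => ?_, hne' x q hxq, fun e => ?_⟩
    · have h1 : f x y = q := by rw [← e]; exact hinv x q hxq
      exact hpq h1
    · have h1 : f x z = q := by rw [← e]; exact hinv x q hxq
      exact hqr h1.symm
    · exact hqy (hcancel x q y hxq hxy e)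
    · exact hqz (hcancel x q z hxq hxz e)
  by_contra hne2
  have hfin : S.Finite := Set.finite_coe_iff.mp (Nat.finite_of_card_ne_zero (by omega))
  have hsub : (insert (f p z) (insert (f x q) six) : Finset X) ⊆ hfin.toFinset := by
    intro a ha
    rw [Set.Finite.mem_toFinset]
    simp only [six, Finset.mem_insert, Finset.mem_singleton] at ha
    rcases ha with rfl | rfl | rfl | rfl | rfl | rfl | rfl | rfl <;> assumption
  have h8 : (insert (f p z) (insert (f x q) six) : Finset X).card = 8 := by
    rw [Finset.card_insert_of_notMem, Finset.card_insert_of_notMem hv, h6]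
    simp only [Finset.mem_insert, not_or]
    exact ⟨hne2, hu⟩
  have h := Finset.card_le_card hsub
  rw [h8, ← Set.ncard_eq_toFinset_card S hfin, ← Nat.card_coe_set_eq, hS] at h
  omega

/-- The space: the points together with zero. -/
inductive Space {f : X → X → X} (h : Lines f) : Type u
  | zero : Space h
  | pt : X → Space h

variable {f : X → X → X}

namespace Space

variable {h : Lines f}

/-- Addition along lines. -/
noncomputable def plus : Space h → Space h → Space h
  | .zero, b => b
  | .pt x, .zero => .pt x
  | .pt x, .pt y => letI := Classical.decEq X; if x = y then .zero else .pt (f x y)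

theorem plus_self (a : Space h) : plus a a = .zero := by
  cases a <;> simp [plus]

theorem plus_zero' (a : Space h) : plus a .zero = a := by cases a <;> rfl

theorem plus_comm' (a b : Space h) : plus a b = plus b a := by
  cases a with
  | zero => cases b <;> rfl
  | pt x => cases b with
    | zero => rfl
    | pt y =>
      rcases eq_or_ne x y with rfl | hxy
      · rfl
      · simp [plus, hxy, Ne.symm hxy, h.comm x y hxy]

theorem plus_inv (a b : Space h) : plus a (plus a b) = b := by
  cases a with
  | zero => rfl
  | pt x => cases b with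
    | zero => simp [plus]
    | pt y =>
      rcases eq_or_ne x y with rfl | hxy
      · simp [plus]
      · simp [plus, hxy, Ne.symm (h.ne x y hxy), h.inv x y hxy]

theorem plus_assoc' (a b c : Space h) : plus (plus a b) c = plus a (plus b c) := by
  cases a with
  | zero => rfl
  | pt x => cases b with
    | zero => rfl
    | pt y => cases c with
      | zero => rw [plus_zero', plus_zero']
      | pt z =>
        rcases eq_or_ne x y with rfl | hxy
        · rw [plus_self, plus_inv]; rfl
        rcases eq_or_ne y z with rfl | hyz
        · rw [plus_self, plus_zero', plus_comm' (.pt x) (.pt y), plus_comm' (plus _ _), plus_inv]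
        rcases eq_or_ne x z with rfl | hxz
        · rw [plus_comm' (plus _ _), plus_inv, plus_comm' (.pt y) (.pt x), plus_inv]
        have hne' : f x y ≠ y := by rw [h.comm x y hxy]; exact h.ne y x (Ne.symm hxy)
        rcases eq_or_ne z (f x y) with rfl | hz
        · have h1 : (Space.pt (f x y) : Space h) = plus (.pt x) (.pt y) := by simp [plus, hxy]
          rw [h1, plus_self, plus_comm' (.pt y), plus_comm' (.pt x) (.pt y),
            plus_comm' (plus (.pt y) (.pt x)), plus_inv, plus_self]
        have hxq : x ≠ f y z := fun e => hz <| by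
          rw [h.comm x y hxy, e, h.inv y z hyz]
        simp [plus, hxy, hyz, Ne.symm hz, hxq, h.assoc x y z hxy hyz hxz hz]

instance : Zero (Space h) := ⟨.zero⟩

noncomputable instance : Add (Space h) := ⟨plus⟩

instance : Neg (Space h) := ⟨id⟩

noncomputable instance : AddCommGroup (Space h) where
  add_assoc := plus_assoc'
  zero_add a := rfl
  add_zero := plus_zero'
  neg_add_cancel := plus_self
  add_comm := plus_comm'
  nsmul := nsmulRec
  zsmul := zsmulRec

noncomputable instance : Module (ZMod 2) (Space h) :=
  AddCommGroup.zmodModule (fun a => by rw [two_nsmul]; exact plus_self a)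

/-- The space as a type over the points. -/
def optionEquiv : Space h ≃ Option X where
  toFun | .zero => none | .pt x => some x
  invFun | none => .zero | some x => .pt x
  left_inv a := by cases a <;> rfl
  right_inv a := by cases a <;> rfl

/-- Action of a compatible permutation. -/
def smulPt {N : Type v} [Group N] [MulAction N X] (g : N) : Space h → Space h
  | .zero => .zero
  | .pt x => .pt (g • x)

end Space

/-- A group preserving the lines of a space of `2 ^ n - 1` points maps to `GL n 2`. -/
theorem exists_hom {N : Type v} [Group N] [MulAction N X] [Finite X] {f : X → X → X}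
    (h : Lines f) (hf : ∀ (g : N) x y, x ≠ y → g • f x y = f (g • x) (g • y)) {n : ℕ}
    (hX : Nat.card X + 1 = 2 ^ n) :
    ∃ φ : N →* GL (Fin n) (ZMod 2), ∀ g : N, φ g = 1 ↔ ∀ x : X, g • x = x := by
  classical
  haveI : Finite (Space h) := Finite.of_equiv _ (Space.optionEquiv (h := h)).symm
  haveI : Module.Finite (ZMod 2) (Space h) := Module.Finite.of_finite
  have hadd : ∀ (g : N) (a b : Space h),
      Space.smulPt g (a + b) = Space.smulPt g a + Space.smulPt g b := by
    intro g a b
    change Space.smulPt g (Space.plus a b) = Space.plus (Space.smulPt g a) (Space.smulPt g b)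
    cases a with
    | zero => rfl
    | pt x => cases b with
      | zero => rfl
      | pt y =>
        rcases eq_or_ne x y with rfl | hxy
        · simp [Space.plus, Space.smulPt]
        · simp [Space.plus, Space.smulPt, hxy, hf g x y hxy]
  let act : N →* (Space h →ₗ[ZMod 2] Space h) :=
    { toFun := fun g => (AddMonoidHom.mk' (Space.smulPt g) (hadd g)).toZModLinearMap 2
      map_one' := by
        ext a
        cases a <;> simp [Space.smulPt]
      map_mul' := fun g k => by
        ext a
        cases a <;> simp [Space.smulPt, mul_smul] }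
  have hcard : Nat.card (Space h) = 2 ^ n := by
    rw [Nat.card_congr (Space.optionEquiv (h := h)), Finite.card_option, hX]
  have hrank : Module.finrank (ZMod 2) (Space h) = n := by
    have h1 := Module.natCard_eq_pow_finrank (K := ZMod 2) (V := Space h)
    rw [hcard, Nat.card_zmod] at h1
    exact (Nat.pow_right_injective le_rfl h1).symm
  let b : Module.Basis (Fin n) (ZMod 2) (Space h) := Module.finBasisOfFinrankEq _ _ hrank
  let toM := (algEquivMatrix b : Module.End (ZMod 2) (Space h) ≃ₐ[ZMod 2] _)
  let φ₀ : N →* Matrix (Fin n) (Fin n) (ZMod 2) :=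
    (toM.toRingEquiv.toMulEquiv.toMonoidHom).comp act
  refine ⟨φ₀.toHomUnits, fun g => ?_⟩
  constructor
  · intro hg x
    have h1 : φ₀ g = 1 := by
      have := congrArg Units.val hg
      simpa [MonoidHom.coe_toHomUnits] using this
    have h2 : act g = 1 := by
      apply toM.injective
      simpa [φ₀] using h1
    have h3 := LinearMap.congr_fun h2 (Space.pt x)
    simpa [act, Space.smulPt] using h3
  · intro hg
    apply Units.ext
    rw [MonoidHom.coe_toHomUnits, Units.val_one]
    have h2 : act g = 1 := by
      ext a
      cases a <;> simp [act, Space.smulPt, hg]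
    simp [φ₀, h2]

/-- Over `ZMod 2` the general linear group is the special linear group. -/
theorem nonempty_gl_equiv_sl (n : ℕ) :
    Nonempty (GL (Fin n) (ZMod 2) ≃* Matrix.SpecialLinearGroup (Fin n) (ZMod 2)) := by
  have hdet : ∀ A : GL (Fin n) (ZMod 2), ((A : Matrix (Fin n) (Fin n) (ZMod 2))).det = 1 := by
    intro A
    have h : IsUnit ((A : Matrix (Fin n) (Fin n) (ZMod 2))).det :=
      (Matrix.isUnit_iff_isUnit_det _).1 A.isUnit
    revert h
    generalize ((A : Matrix (Fin n) (Fin n) (ZMod 2))).det = d
    intro h
    have : d = 0 ∨ d = 1 := (by decide : ∀ e : ZMod 2, e = 0 ∨ e = 1) d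
    rcases this with rfl | rfl
    · exact absurd h not_isUnit_zero
    · rfl
  refine ⟨(MulEquiv.ofBijective
    (Matrix.SpecialLinearGroup.toGL : Matrix.SpecialLinearGroup (Fin n) (ZMod 2) →* _) ⟨?_, ?_⟩).symm⟩
  · intro A B hAB
    exact Subtype.ext (congrArg Units.val hAB)
  · intro A
    exact ⟨⟨A, hdet A⟩, Units.ext rfl⟩

end CfsgLib.TwoSpace
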